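import Cfsg.Agent.S5653
import Cfsg.Agent.S5655
import Cfsg.Agent.Lib.Subspaces.UnitMonoFour
import Cfsg.Agent.Lib.Subspaces.UnitPlanesFour
import Cfsg.Agent.Lib.FrameSix.RealMax

/-!
# The conjuncts on `SU(4,q)` for subspaces, decompositions and the symplectic-type normaliser
-/

set_option autoImplicit false
open Cfsg

namespace Cfsg.Agent.Lib.SUFour93

open Matrix Cfsg.Agent.Lib.Subspaces.Transvection Cfsg.Agent.Lib.Subspaces.FormVec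
  Cfsg.Agent.Lib.Subspaces.UnitaryForm Cfsg.Agent.Lib.Subspaces.UnitaryGen
  Cfsg.Agent.Lib.Subspaces.UnitaryEichler Cfsg.Agent.Lib.Subspaces.Decomposition

variable {F : Type*} [Field F] [Fintype F]

theorem planes_ts {q : ℕ} (hF : Fintype.card F = q ^ 2) (h4 : 4 ≤ q) (D : Fin 2 → Submodule F (Fin 4 → F))
    (hD : Cfsg.Geo.IsMDecomposition 2 D)
    (hts : ∀ i, Cfsg.Geo.IsTotallySingularFor (Cfsg.hermForm 4 F q) (D i)) :
    Cfsg.Geo.IsMaximalIn (Cfsg.GU 4 F q ⊓ Cfsg.Geo.specialLinear (Fin 4) F)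
      (Cfsg.Geo.decompositionStabilizer D ⊓ (Cfsg.GU 4 F q ⊓ Cfsg.Geo.specialLinear (Fin 4) F)) := by
  have hf := hermForm_isUnitary (n := 4) hF
  refine isMaximalIn_of inf_le_right ?_ ?_
  · obtain ⟨a, ha, ha0⟩ := Submodule.exists_mem_ne_zero_of_ne_bot (block_ne_bot hD 0)
    obtain ⟨e, he0, he⟩ := exists_skew_scalar hf
    refine ⟨_, utv_mem_SU hF (hts 0 a ha a ha) he, fun h => ?_⟩
    obtain ⟨z, hz⟩ := (hf.nondegenerate a ha0).1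
    obtain ⟨σ', hσ⟩ := exists_image_of_mem h.1
    set z1 := comp hD 1 z with hz1
    have hzm : z1 ∈ D 1 := comp_mem hD 1 z
    have hz1a : e * Cfsg.hermForm 4 F q z1 a ≠ 0 := mul_ne_zero he0 fun e' => hz (by
      rw [Cfsg.Agent.S5657.form_comp' hf hD hts (show (0 : Fin 2) ≠ 1 by decide) ha, ← hz1]
      exact e')
    have h0 := hσ 0 a ha
    have h1 := hσ 1 z1 hzm
    rw [utv_mulVec hf (hts 0 a ha a ha), hts 0 a ha a ha, mul_zero, zero_smul, add_zero] at h0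
    rw [utv_mulVec hf (hts 0 a ha a ha)] at h1
    have hσ0 : σ' 0 = 0 := by
      by_contra hne
      exact ha0 (by rw [← comp_self hD ha, comp_other hD (Ne.symm hne) h0])
    have hσ1 : σ' 1 = 1 := by
      by_contra hne
      have h10 : σ' 1 = 0 := by omega
      exact absurd (σ'.injective (hσ0.trans h10.symm)) (by decide)
    rw [hσ1] at h1
    have h3 := (D 1).smul_mem (e * Cfsg.hermForm 4 F q z1 a)⁻¹ ((D 1).sub_mem h1 hzm)
    rw [add_sub_cancel_left, smul_smul, inv_mul_cancel₀ hz1a, one_smul] at h3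
    exact ha0 (by rw [← comp_self hD ha, comp_other hD (show (0 : Fin 2) ≠ 1 by decide) h3])
  intro M hHM hMK g hgM hgH
  exact su_le hF (le_refl 4) (Cfsg.Agent.Lib.Subspaces.UnitPlanesFour.centers_all hF
    ⟨hD, hts, h4, fun h hh => mem_GU_iff'.mp (hMK hh).1, fun h hh => (hMK hh).2,
      fun h h1 h2 h3 => hHM ⟨h1, mem_GU_iff'.mpr h2, h3⟩⟩ hgM fun h => hgH ⟨h, hMK hgM⟩)

theorem c1 (q : ℕ) (hF : Fintype.card F = q ^ 2) :
    ∀ W : Submodule F (Fin 4 → F), W ≠ ⊥ → Cfsg.Geo.IsTotallySingularFor (Cfsg.hermForm 4 F q) W → Cfsg.Geo.IsMaximalIn (Cfsg.GU 4 F q ⊓ Cfsg.Geo.specialLinear (Fin 4) F) (Cfsg.Geo.subspaceStabilizer W ⊓ (Cfsg.GU 4 F q ⊓ Cfsg.Geo.specialLinear (Fin 4) F)) :=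
  fun W h0 hW => Cfsg.Agent.S5653.maximal_of_four 4 q hF le_rfl W h0 hW

theorem c3 (q : ℕ) (hF : Fintype.card F = q ^ 2) :
    q ≠ 3 → ∀ D : Fin 4 → Submodule F (Fin 4 → F), Cfsg.Geo.IsNondegenerateMDecomposition (Cfsg.hermForm 4 F q) 1 D → Cfsg.Geo.IsMaximalIn (Cfsg.GU 4 F q ⊓ Cfsg.Geo.specialLinear (Fin 4) F) (Cfsg.Geo.decompositionStabilizer D ⊓ (Cfsg.GU 4 F q ⊓ Cfsg.Geo.specialLinear (Fin 4) F)) :=
  fun h3 D hD => Cfsg.Agent.S5655.maximal_lines_of 4 q hF le_rfl D hD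
    fun M S g hg hm => Cfsg.Agent.Lib.Subspaces.UnitMonoFour.su_le_of_mono hF S rfl h3 hg hm

theorem c4 (q : ℕ) (hF : Fintype.card F = q ^ 2) :
    3 ≤ q → ∀ D : Fin 2 → Submodule F (Fin 4 → F), Cfsg.Geo.IsNondegenerateMDecomposition (Cfsg.hermForm 4 F q) 2 D → Cfsg.Geo.IsMaximalIn (Cfsg.GU 4 F q ⊓ Cfsg.Geo.specialLinear (Fin 4) F) (Cfsg.Geo.decompositionStabilizer D ⊓ (Cfsg.GU 4 F q ⊓ Cfsg.Geo.specialLinear (Fin 4) F)) :=
  fun h3 D hD => Cfsg.Agent.S5655.maximal_blocks 4 q hF le_rfl 2 le_rfl D hD (by omega)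

theorem c9 (q : ℕ) (hF : Fintype.card F = q ^ 2) :
    ∀ (p : ℕ) (R : Subgroup (Matrix.GeneralLinearGroup (Fin 4) F)), p.Prime → q = p → p % 4 = 3 → Cfsg.Geo.IsSymplecticTypeGroup 2 R → Cfsg.Geo.ActsAbsolutelyIrreducibly (Cfsg.Geo.matrixSet R) → R ≤ Cfsg.GU 4 F q → Nat.card R = 64 → Nat.card (Subgroup.center R) = 4 → Cfsg.Geo.IsMaximalIn (Cfsg.GU 4 F q ⊓ Cfsg.Geo.specialLinear (Fin 4) F) (Cfsg.Geo.subgroupNormalizer R ⊓ (Cfsg.GU 4 F q ⊓ Cfsg.Geo.specialLinear (Fin 4) F)) :=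
  fun _ R hp hq h4 h1 h2 h3 h5 h6 =>
    Cfsg.Agent.FrameSix.Real.c6_maximal_unitary hp hq h4 hF R h1 h2 h3 h5 h6

end Cfsg.Agent.Lib.SUFour93
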